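import Groth.Agent.Lib.Helper6.Rees.Basic

/-!
# Fibres of the Rees algebra (helper6)
-/

open scoped Classical
set_option linter.unusedSectionVars false
set_option autoImplicit false

universe u v

noncomputable section

namespace Groth.Agent.Lib.Helper6.Rees

open Polynomial

namespace ReesData

variable {K : Type u} [Field K] {B : Type u} [CommRing B] [Algebra K B] {ι : Type v}
  (D : ReesData K B ι)

/-- Evaluation at `t = c`. -/
def evc (c : K) : D.R →ₐ[K] B :=
  ((Polynomial.aeval (algebraMap K B c) : Polynomial B →ₐ[B] B).restrictScalars K).comp D.sub.val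

lemma evc_apply (c : K) (r : D.R) : D.evc c r = (r : Polynomial B).eval (algebraMap K B c) := by
  unfold evc
  rw [AlgHom.comp_apply]
  show Polynomial.aeval (algebraMap K B c) (r : Polynomial B) = _
  rw [Polynomial.coe_aeval_eq_eval]

lemma evc_e (c : K) (i : ι) : D.evc c (D.e i) = (c ^ D.ω i) • D.b i := by
  rw [evc_apply, coe_e, Polynomial.eval_mul, Polynomial.eval_C, Polynomial.eval_pow, Polynomial.eval_X,
    Algebra.smul_def, map_pow, mul_comm]

theorem evc_surjective (c : K) (hc : c ≠ 0) : Function.Surjective (D.evc c) := by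
  intro y
  have hy : y ∈ Submodule.span K (Set.range D.b) := by rw [D.hsp]; trivial
  induction hy using Submodule.span_induction with
  | mem y hy =>
    obtain ⟨i, rfl⟩ := hy
    refine ⟨(c⁻¹ ^ D.ω i) • D.e i, ?_⟩
    rw [map_smul, evc_e, smul_smul, ← mul_pow, inv_mul_cancel₀ hc, one_pow, one_smul]
  | zero => exact ⟨0, map_zero _⟩
  | add y z _ _ hy hz =>
    obtain ⟨r1, h1⟩ := hy
    obtain ⟨r2, h2⟩ := hz
    exact ⟨r1 + r2, by rw [map_add, h1, h2]⟩
  | smul a y _ hy =>
    obtain ⟨r1, h1⟩ := hy
    exact ⟨a • r1, by rw [map_smul, h1]⟩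

lemma coeff_mem_of_mul (c : K) (hc : c ≠ 0) (q : Polynomial B)
    (h : (X - C (algebraMap K B c)) * q ∈ D.sub) : q ∈ D.sub := by
  intro k
  induction k with
  | zero =>
    have h0 := h 0
    rw [sub_mul, Polynomial.coeff_sub, Polynomial.coeff_X_mul_zero, Polynomial.coeff_C_mul, zero_sub] at h0
    have : q.coeff 0 = (-(c⁻¹)) • (-(algebraMap K B c * q.coeff 0)) := by
      rw [Algebra.smul_def, map_neg, neg_mul_neg, ← mul_assoc, ← map_mul, inv_mul_cancel₀ hc, map_one,
        one_mul]
    rw [this]
    exact Submodule.smul_mem _ _ h0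
  | succ k ih =>
    have h1 := h (k + 1)
    rw [sub_mul, Polynomial.coeff_sub, Polynomial.coeff_X_mul, Polynomial.coeff_C_mul] at h1
    have : q.coeff (k + 1) = (c⁻¹) • (q.coeff k - (q.coeff k - algebraMap K B c * q.coeff (k + 1))) := by
      rw [sub_sub_cancel, Algebra.smul_def, ← mul_assoc, ← map_mul, inv_mul_cancel₀ hc, map_one, one_mul]
    rw [this]
    exact Submodule.smul_mem _ _ (Submodule.sub_mem _ (D.Fil_mono (Nat.le_succ k) ih) h1)

theorem ker_evc (c : K) (hc : c ≠ 0) :
    RingHom.ker (D.evc c).toRingHom =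
      Ideal.span {algebraMap (Polynomial K) D.R (Polynomial.X - Polynomial.C c)} := by
  apply le_antisymm
  · intro r hr
    rw [RingHom.mem_ker] at hr
    have hr' : D.evc c r = 0 := hr
    rw [evc_apply] at hr'
    have hroot : Polynomial.IsRoot (r : Polynomial B) (algebraMap K B c) := hr'
    obtain ⟨q, hq⟩ := Polynomial.dvd_iff_isRoot.mpr hroot
    have hqmem : q ∈ D.sub := by
      apply D.coeff_mem_of_mul c hc
      rw [← hq]
      exact r.2
    rw [Ideal.mem_span_singleton]
    refine ⟨⟨q, hqmem⟩, ?_⟩
    apply Subtype.ext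
    show (r : Polynomial B) = ((algebraMap (Polynomial K) D.R (X - C c) : D.R) : Polynomial B) * q
    rw [coe_algebraMap_poly, Polynomial.map_sub, Polynomial.map_X, Polynomial.map_C]
    exact hq
  · rw [Ideal.span_le]
    rintro _ rfl
    rw [SetLike.mem_coe, RingHom.mem_ker]
    show D.evc c _ = 0
    rw [evc_apply, coe_algebraMap_poly, Polynomial.map_sub, Polynomial.map_X, Polynomial.map_C,
      Polynomial.eval_sub, Polynomial.eval_X, Polynomial.eval_C, sub_self]

/-- The fibre at `c ≠ 0` is `B`. -/
def fibreEquiv (c : K) (hc : c ≠ 0) :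
    (D.R ⧸ Ideal.span {algebraMap (Polynomial K) D.R (Polynomial.X - Polynomial.C c)}) ≃ₐ[K] B :=
  (Ideal.quotientEquivAlgOfEq K (D.ker_evc c hc).symm).trans
    (Ideal.quotientKerAlgEquivOfSurjective (D.evc_surjective c hc))

/-! ### The fibre at zero -/

lemma algebraMap_X : algebraMap (Polynomial K) D.R Polynomial.X = D.t := by
  rw [algebraMap_poly, Polynomial.aeval_X]

/-- The quotient map to the special fibre. -/
abbrev R0 : Type u := D.R ⧸ Ideal.span {algebraMap (Polynomial K) D.R Polynomial.X}

lemma el_succ (k : ℕ) (y : B) (hy : y ∈ D.Fil k) :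
    D.el (k + 1) y (D.Fil_mono (Nat.le_succ k) hy) = D.t * D.el k y hy := by
  apply Subtype.ext
  show C y * X ^ (k + 1) = ((D.t : D.R) : Polynomial B) * (C y * X ^ k)
  rw [coe_t, pow_succ]
  ring

lemma mk_el_eq_zero (k : ℕ) (y : B) (hy : y ∈ D.Fil k) :
    Ideal.Quotient.mk (Ideal.span {algebraMap (Polynomial K) D.R Polynomial.X})
      (D.el (k + 1) y (D.Fil_mono (Nat.le_succ k) hy)) = 0 := by
  rw [Ideal.Quotient.eq_zero_iff_mem, D.el_succ k y hy, algebraMap_X]
  exact Ideal.mul_mem_right _ _ (Ideal.subset_span rfl)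

lemma el_mul (k l : ℕ) (y z : B) (hy : y ∈ D.Fil k) (hz : z ∈ D.Fil l) :
    D.el k y hy * D.el l z hz = D.el (k + l) (y * z) (D.Fil_mul hy hz) := by
  apply Subtype.ext
  show (C y * X ^ k) * (C z * X ^ l) = C (y * z) * X ^ (k + l)
  rw [map_mul, pow_add]
  ring

lemma el_sub (k : ℕ) (y z : B) (hy : y ∈ D.Fil k) (hz : z ∈ D.Fil k) :
    D.el k y hy - D.el k z hz = D.el k (y - z) (Submodule.sub_mem _ hy hz) := by
  apply Subtype.ext
  show (C y * X ^ k) - (C z * X ^ k) = C (y - z) * X ^ k
  rw [map_sub, sub_mul]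

/-- An element of strictly smaller filtration degree vanishes in the special fibre. -/
lemma mk_el_of_lt (k : ℕ) (y : B) (hk : 0 < k) (hy : y ∈ D.Fil (k - 1)) :
    Ideal.Quotient.mk (Ideal.span {algebraMap (Polynomial K) D.R Polynomial.X})
      (D.el k y (D.Fil_mono (Nat.sub_le k 1) hy)) = 0 := by
  obtain ⟨k', rfl⟩ : ∃ k', k = k' + 1 := ⟨k - 1, by omega⟩
  have hy' : y ∈ D.Fil k' := hy
  exact D.mk_el_eq_zero k' y hy'

/-- The classes of the weighted basis elements are linearly independent in the special fibre. -/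
theorem linearIndependent_mk_e :
    LinearIndependent K (fun i => Ideal.Quotient.mk
      (Ideal.span {algebraMap (Polynomial K) D.R Polynomial.X}) (D.e i)) := by
  rw [linearIndependent_iff']
  intro s g hsum i0 hi0
  have hmem : (∑ i ∈ s, g i • D.e i) ∈ Ideal.span {algebraMap (Polynomial K) D.R Polynomial.X} := by
    rw [← Ideal.Quotient.eq_zero_iff_mem, map_sum]
    rw [← hsum]
    apply Finset.sum_congr rfl
    intro i _
    rfl
  rw [Ideal.mem_span_singleton, algebraMap_X] at hmem
  obtain ⟨q, hq⟩ := hmem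
  -- coefficient at `k = ω i0`
  set k := D.ω i0 with hk
  have hcoe : ((∑ i ∈ s, g i • D.e i : D.R) : Polynomial B) = X * (q : Polynomial B) := by
    rw [hq]
    show ((D.t : D.R) : Polynomial B) * _ = _
    rw [coe_t]
  have hcoe2 : ((∑ i ∈ s, g i • D.e i : D.R) : Polynomial B) =
      ∑ i ∈ s, C (g i • D.b i) * X ^ D.ω i := by
    rw [AddSubmonoidClass.coe_finsetSum]
    apply Finset.sum_congr rfl
    intro i _
    show ((g i • D.e i : D.R) : Polynomial B) = _
    have : ((g i • D.e i : D.R) : Polynomial B) = g i • ((D.e i : D.R) : Polynomial B) := rfl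
    rw [this, coe_e, ← smul_mul_assoc, Polynomial.smul_C]
  have hck := congrArg (fun p : Polynomial B => p.coeff k) (hcoe2.symm.trans hcoe)
  simp only [Polynomial.finsetSum_coeff, Polynomial.coeff_C_mul_X_pow] at hck
  -- left side: sum over `i ∈ s` with `ω i = k`
  have hL : (∑ i ∈ s, if k = D.ω i then g i • D.b i else 0) =
      ∑ i ∈ s.filter (fun i => D.ω i = k), g i • D.b i := by
    rw [Finset.sum_filter]
    apply Finset.sum_congr rfl
    intro i _
    by_cases h : D.ω i = k
    · rw [if_pos h, if_pos h.symm]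
    · rw [if_neg h, if_neg (fun h' => h h'.symm)]
  rw [hL] at hck
  -- right side lies in the span of the `b j` with `ω j < k`
  have hR : (X * (q : Polynomial B)).coeff k ∈
      Submodule.span K (D.b '' {j | D.ω j < k}) := by
    rcases Nat.eq_zero_or_pos k with h0 | hpos
    · rw [h0, Polynomial.coeff_X_mul_zero]
      exact Submodule.zero_mem _
    · obtain ⟨k', hk'⟩ : ∃ k', k = k' + 1 := ⟨k - 1, by omega⟩
      rw [hk', Polynomial.coeff_X_mul]
      have := q.2 k'
      unfold Fil at this
      refine (Submodule.span_mono ?_) this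
      rintro _ ⟨j, hj, rfl⟩
      exact ⟨j, by simp only [Set.mem_ofPred_eq]; omega, rfl⟩
  have hLmem : (∑ i ∈ s.filter (fun i => D.ω i = k), g i • D.b i) ∈
      Submodule.span K (D.b '' {j | D.ω j = k}) := by
    apply Submodule.sum_mem
    intro i hi
    apply Submodule.smul_mem
    apply Submodule.subset_span
    exact ⟨i, (Finset.mem_filter.mp hi).2, rfl⟩
  have hdisj : Disjoint {j : ι | D.ω j = k} {j | D.ω j < k} := by
    rw [Set.disjoint_left]
    intro j h1 h2
    simp only [Set.mem_ofPred_eq] at h1 h2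
    omega
  have hd := D.hli.disjoint_span_image hdisj
  rw [← hck] at hR
  have hzero := (Submodule.disjoint_def.mp hd) _ hLmem hR
  have hli := linearIndependent_iff'.mp D.hli
  exact hli _ _ hzero i0 (Finset.mem_filter.mpr ⟨hi0, rfl⟩)

/-- The special fibre is spanned by the classes of the weighted basis elements. -/
theorem span_mk_e :
    Submodule.span K (Set.range fun i => Ideal.Quotient.mk
      (Ideal.span {algebraMap (Polynomial K) D.R Polynomial.X}) (D.e i)) = ⊤ := by
  have key : ∀ r ∈ Submodule.span (Polynomial K) (Set.range D.e),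
      Ideal.Quotient.mk (Ideal.span {algebraMap (Polynomial K) D.R Polynomial.X}) r ∈
      Submodule.span K (Set.range fun i => Ideal.Quotient.mk
        (Ideal.span {algebraMap (Polynomial K) D.R Polynomial.X}) (D.e i)) := by
    intro r hr
    induction hr using Submodule.span_induction with
    | mem r hr =>
      obtain ⟨i, rfl⟩ := hr
      exact Submodule.subset_span ⟨i, rfl⟩
    | zero => rw [map_zero]; exact Submodule.zero_mem _
    | add y z _ _ hy hz => rw [map_add]; exact Submodule.add_mem _ hy hz
    | smul p y _ hy =>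
      have hp : p • y = (p.coeff 0) • y + D.t * ((Polynomial.divX p) • y) := by
        rw [Algebra.smul_def, Algebra.smul_def (p.coeff 0), Algebra.smul_def (Polynomial.divX p)]
        have e1 : algebraMap (Polynomial K) D.R p =
            algebraMap (Polynomial K) D.R (Polynomial.divX p) * D.t + algebraMap K D.R (p.coeff 0) := by
          conv_lhs => rw [← Polynomial.divX_mul_X_add p]
          rw [map_add, map_mul, algebraMap_X]
          congr 1
          rw [IsScalarTower.algebraMap_apply K (Polynomial K) D.R, Polynomial.algebraMap_apply,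
            Algebra.algebraMap_self, RingHom.id_apply]
        rw [e1]
        ring
      rw [hp, map_add]
      have h2 : Ideal.Quotient.mk (Ideal.span {algebraMap (Polynomial K) D.R Polynomial.X})
          (D.t * ((Polynomial.divX p) • y)) = 0 := by
        rw [Ideal.Quotient.eq_zero_iff_mem, algebraMap_X]
        exact Ideal.mul_mem_right _ _ (Ideal.subset_span rfl)
      rw [h2, add_zero]
      have h3 : Ideal.Quotient.mk (Ideal.span {algebraMap (Polynomial K) D.R Polynomial.X})
          ((p.coeff 0) • y) = (p.coeff 0) • Ideal.Quotient.mk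
            (Ideal.span {algebraMap (Polynomial K) D.R Polynomial.X}) y := rfl
      rw [h3]
      exact Submodule.smul_mem _ _ hy
  rw [eq_top_iff]
  intro x _
  obtain ⟨r, rfl⟩ := Ideal.Quotient.mk_surjective x
  exact key r (by rw [D.span_e]; trivial)

end ReesData

end Groth.Agent.Lib.Helper6.Rees

end
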