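import Mathlib

/-!
# Rees algebra of a filtration compatible with a basis (helper6)

Given a `K`-algebra `B` with a `K`-basis `b i` and weights `ω i` such that
`b i * b j ∈ span {b k | ω k ≤ ω i + ω j}`, the Rees algebra `⊕ F_k t^k ⊆ B[t]` is a free
`K[t]`-algebra with fibre `B` at every `c ≠ 0` and fibre `gr_F B` at `0`.
-/

open scoped Classical
set_option linter.unusedSectionVars false
set_option autoImplicit false

universe u v

noncomputable section

namespace Groth.Agent.Lib.Helper6.Rees

open Polynomial

/-- Data of a weighted basis with multiplicative filtration. -/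
structure ReesData (K : Type u) [Field K] (B : Type u) [CommRing B] [Algebra K B] (ι : Type v) where
  b : ι → B
  ω : ι → ℕ
  hmul : ∀ i j, b i * b j ∈ Submodule.span K {y | ∃ k, ω k ≤ ω i + ω j ∧ y = b k}
  hone : (1 : B) ∈ Submodule.span K {y | ∃ k, ω k ≤ 0 ∧ y = b k}
  hli : LinearIndependent K b
  hsp : Submodule.span K (Set.range b) = ⊤

namespace ReesData

variable {K : Type u} [Field K] {B : Type u} [CommRing B] [Algebra K B] {ι : Type v}
  (D : ReesData K B ι)

/-- The filtration. -/
def Fil (k : ℕ) : Submodule K B := Submodule.span K {y | ∃ i, D.ω i ≤ k ∧ y = D.b i}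

lemma b_mem_Fil (i : ι) {k : ℕ} (h : D.ω i ≤ k) : D.b i ∈ D.Fil k :=
  Submodule.subset_span ⟨i, h, rfl⟩

lemma Fil_mono {k l : ℕ} (h : k ≤ l) : D.Fil k ≤ D.Fil l := by
  apply Submodule.span_mono
  rintro _ ⟨i, hi, rfl⟩
  exact ⟨i, le_trans hi h, rfl⟩

lemma one_mem_Fil (k : ℕ) : (1 : B) ∈ D.Fil k := D.Fil_mono (Nat.zero_le k) D.hone

lemma Fil_mul {k l : ℕ} {x y : B} (hx : x ∈ D.Fil k) (hy : y ∈ D.Fil l) : x * y ∈ D.Fil (k + l) := by
  unfold Fil at hx hy
  induction hx using Submodule.span_induction with
  | mem x hx =>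
    obtain ⟨i, hi, rfl⟩ := hx
    induction hy using Submodule.span_induction with
    | mem y hy =>
      obtain ⟨j, hj, rfl⟩ := hy
      exact D.Fil_mono (Nat.add_le_add hi hj) (D.hmul i j)
    | zero => rw [mul_zero]; exact Submodule.zero_mem _
    | add y z _ _ hy hz => rw [mul_add]; exact Submodule.add_mem _ hy hz
    | smul a y _ hy => rw [mul_smul_comm]; exact Submodule.smul_mem _ _ hy
  | zero => rw [zero_mul]; exact Submodule.zero_mem _
  | add x z _ _ hx hz => rw [add_mul]; exact Submodule.add_mem _ hx hz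
  | smul a x _ hx => rw [smul_mul_assoc]; exact Submodule.smul_mem _ _ hx

/-- The Rees algebra as a subalgebra of `B[t]`. -/
def sub : Subalgebra K (Polynomial B) where
  carrier := {p | ∀ k, p.coeff k ∈ D.Fil k}
  mul_mem' := by
    intro p q hp hq k
    rw [Polynomial.coeff_mul]
    apply Submodule.sum_mem
    intro x hx
    have hk : x.1 + x.2 = k := by
      exact Finset.HasAntidiagonal.mem_antidiagonal.mp hx
    rw [← hk]
    exact D.Fil_mul (hp x.1) (hq x.2)
  one_mem' := by
    intro k
    rw [Polynomial.coeff_one]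
    split_ifs
    · exact D.one_mem_Fil k
    · exact Submodule.zero_mem _
  add_mem' := by
    intro p q hp hq k
    rw [Polynomial.coeff_add]
    exact Submodule.add_mem _ (hp k) (hq k)
  zero_mem' := by
    intro k
    rw [Polynomial.coeff_zero]
    exact Submodule.zero_mem _
  algebraMap_mem' := by
    intro c k
    rw [Polynomial.algebraMap_apply, Polynomial.coeff_C]
    split_ifs
    · rw [Algebra.algebraMap_eq_smul_one]
      exact Submodule.smul_mem _ _ (D.one_mem_Fil k)
    · exact Submodule.zero_mem _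

lemma mem_sub {p : Polynomial B} : p ∈ D.sub ↔ ∀ k, p.coeff k ∈ D.Fil k := Iff.rfl

/-- The Rees algebra as a type. -/
abbrev R : Type u := ↥D.sub

/-- The homogeneous element `y t^k`, `y ∈ F_k`. -/
def el (k : ℕ) (y : B) (hy : y ∈ D.Fil k) : D.R :=
  ⟨C y * X ^ k, by
    intro l
    rw [Polynomial.coeff_C_mul_X_pow]
    split_ifs with h
    · rw [h]; exact hy
    · exact Submodule.zero_mem _⟩

lemma coe_el (k : ℕ) (y : B) (hy : y ∈ D.Fil k) : ((D.el k y hy : D.R) : Polynomial B) = C y * X ^ k := rfl

/-- The parameter `t`. -/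
def t : D.R := D.el 1 1 (D.one_mem_Fil 1)

lemma coe_t : ((D.t : D.R) : Polynomial B) = X := by
  unfold t
  rw [coe_el, map_one, one_mul, pow_one]

instance algPoly : Algebra (Polynomial K) D.R := (Polynomial.aeval D.t).toRingHom.toAlgebra

lemma algebraMap_poly (p : Polynomial K) : algebraMap (Polynomial K) D.R p = Polynomial.aeval D.t p := rfl

instance : IsScalarTower K (Polynomial K) D.R :=
  IsScalarTower.of_algebraMap_eq (fun c => by
    rw [algebraMap_poly, Polynomial.algebraMap_apply, Polynomial.aeval_C]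
    rfl)

lemma coe_algebraMap_poly (p : Polynomial K) :
    ((algebraMap (Polynomial K) D.R p : D.R) : Polynomial B) = p.map (algebraMap K B) := by
  rw [algebraMap_poly]
  have h1 : ((Polynomial.aeval D.t p : D.R) : Polynomial B) = D.sub.val (Polynomial.aeval D.t p) := rfl
  rw [h1, ← Polynomial.aeval_algHom_apply]
  have h2 : D.sub.val D.t = (X : Polynomial B) := D.coe_t
  rw [h2, Polynomial.aeval_X_left_eq_map]

lemma coe_smul_poly (p : Polynomial K) (r : D.R) :
    ((p • r : D.R) : Polynomial B) = p.map (algebraMap K B) * (r : Polynomial B) := by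
  rw [Algebra.smul_def]
  show ((algebraMap (Polynomial K) D.R p : D.R) : Polynomial B) * _ = _
  rw [coe_algebraMap_poly]

/-- The weighted basis elements. -/
def e (i : ι) : D.R := D.el (D.ω i) (D.b i) (D.b_mem_Fil i le_rfl)

lemma coe_e (i : ι) : ((D.e i : D.R) : Polynomial B) = C (D.b i) * X ^ D.ω i := rfl

lemma coeff_smul_e (p : Polynomial K) (i : ι) (k : ℕ) :
    ((p • D.e i : D.R) : Polynomial B).coeff k =
      (if D.ω i ≤ k then p.coeff (k - D.ω i) else 0) • D.b i := by
  rw [coe_smul_poly, coe_e, ← mul_assoc, Polynomial.coeff_mul_X_pow']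
  split_ifs with h
  · rw [Polynomial.coeff_mul_C, Polynomial.coeff_map, Algebra.smul_def]
  · rw [zero_smul]

theorem linearIndependent_e : LinearIndependent (Polynomial K) D.e := by
  rw [linearIndependent_iff']
  intro s g hsum i hi
  have hc : ∀ k, ∑ j ∈ s, (if D.ω j ≤ k then (g j).coeff (k - D.ω j) else 0) • D.b j = 0 := by
    intro k
    have h1 : ((∑ j ∈ s, g j • D.e j : D.R) : Polynomial B).coeff k = 0 := by
      rw [hsum]
      rfl
    rw [← h1]
    have h2 : ((∑ j ∈ s, g j • D.e j : D.R) : Polynomial B) =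
        ∑ j ∈ s, ((g j • D.e j : D.R) : Polynomial B) :=
      AddSubmonoidClass.coe_finsetSum _ _
    rw [h2, Polynomial.finsetSum_coeff]
    apply Finset.sum_congr rfl
    intro j _
    rw [coeff_smul_e]
  have hli := linearIndependent_iff'.mp D.hli
  apply Polynomial.ext
  intro l
  have := hli s _ (hc (l + D.ω i)) i hi
  rw [if_pos (Nat.le_add_left _ _), Nat.add_sub_cancel] at this
  rw [this, Polynomial.coeff_zero]

lemma el_mem_span (k : ℕ) (y : B) (hy : y ∈ D.Fil k) :
    D.el k y hy ∈ Submodule.span (Polynomial K) (Set.range D.e) := by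
  unfold Fil at hy
  induction hy using Submodule.span_induction with
  | mem y hy =>
    obtain ⟨i, hi, rfl⟩ := hy
    have : D.el k (D.b i) (Submodule.subset_span ⟨i, hi, rfl⟩) = (X ^ (k - D.ω i) : Polynomial K) • D.e i := by
      apply Subtype.ext
      rw [coe_smul_poly, coe_el, coe_e, Polynomial.map_pow, Polynomial.map_X]
      calc C (D.b i) * X ^ k = C (D.b i) * X ^ ((k - D.ω i) + D.ω i) := by
            rw [Nat.sub_add_cancel hi]
        _ = _ := by rw [pow_add]; ring
    rw [this]
    exact Submodule.smul_mem _ _ (Submodule.subset_span ⟨i, rfl⟩)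
  | zero =>
    have : D.el k 0 (Submodule.zero_mem _) = 0 := by
      apply Subtype.ext
      rw [coe_el, map_zero, zero_mul]
      rfl
    rw [this]
    exact Submodule.zero_mem _
  | add y z hy hz hy' hz' =>
    have : D.el k (y + z) (Submodule.add_mem _ hy hz) = D.el k y hy + D.el k z hz := by
      apply Subtype.ext
      rw [coe_el, map_add, add_mul]
      rfl
    rw [this]
    exact Submodule.add_mem _ hy' hz'
  | smul a y hy hy' =>
    have : D.el k (a • y) (Submodule.smul_mem _ _ hy) = (C a : Polynomial K) • D.el k y hy := by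
      apply Subtype.ext
      rw [coe_smul_poly, coe_el, coe_el, Polynomial.map_C, Algebra.smul_def, map_mul, mul_assoc]
    rw [this]
    exact Submodule.smul_mem _ _ hy'

lemma eq_sum_el (r : D.R) :
    r = ∑ k ∈ (r : Polynomial B).support, D.el k ((r : Polynomial B).coeff k) (r.2 k) := by
  apply Subtype.ext
  have h2 : ((∑ k ∈ (r : Polynomial B).support, D.el k ((r : Polynomial B).coeff k) (r.2 k) : D.R) :
      Polynomial B) = ∑ k ∈ (r : Polynomial B).support,
        ((D.el k ((r : Polynomial B).coeff k) (r.2 k) : D.R) : Polynomial B) :=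
    AddSubmonoidClass.coe_finsetSum _ _
  rw [h2]
  exact Polynomial.as_sum_support_C_mul_X_pow _

theorem span_e : Submodule.span (Polynomial K) (Set.range D.e) = ⊤ := by
  rw [eq_top_iff]
  intro r _
  rw [D.eq_sum_el r]
  apply Submodule.sum_mem
  intro k _
  exact D.el_mem_span k _ _

/-- The Rees algebra is free over `K[t]`. -/
theorem free : Module.Free (Polynomial K) D.R :=
  Module.Free.of_basis (Module.Basis.mk D.linearIndependent_e (by rw [D.span_e]))

end ReesData

end Groth.Agent.Lib.Helper6.Rees

end
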